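import Mathlib
import Groth.Agent.Lib.Helper19.ResG.FieldPt
import Groth.Agent.Lib.Helper19.CancelAlg
import Groth.Agent.Lib.Helper19.StPtsRep
import Groth.Agent.Lib.Helper15.AlgSpField
import Groth.Agent.S12774

/-!
# Lifting a field point through a monomorphism of stacks (helper19)
-/

set_option autoImplicit false
set_option backward.isDefEq.respectTransparency false

universe v₁ u₁ v₂ u₂ v₃ u₃ u

open CategoryTheory CategoryTheory.Limits AlgebraicGeometry

namespace Groth.Agent.Helper19.GerbMono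

open FibCat AlgSt Stk Groth.Agent.Helper19.FibLib Groth.Agent.Helper19.StLib
  Groth.Agent.Helper19.PshSt Groth.Agent.Helper19.PshLib Groth.Agent.Helper19.StPts
  Groth.Agent.Helper19.CancelAlg

variable {S : Scheme.{u}}

/-- a functor `ofSp F ⟶ (Sch/U)` whose map of sheaves is an isomorphism is an equivalence. -/
theorem isEquivOver_of_isIso_spMapOfOver {F : AlgSp.Sp S} {U : Over S} (Φ : ofSp F ⥤ᵇ overCat U)
    (h : IsIso (spMapOfOver Φ)) : IsEquivOver Φ := by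
  let s : F.obj ⟶ (AlgSp.pyon S).obj U := pshMapOf (BasedFunctor.comp Φ (ofOverCat U))
  have e1 : spMapOfOver Φ = ObjectProperty.homMk s := by
    rw [spMapOfOver_eq_of_iso (isoToOverCat Φ).symm, spMapOfOver_ofPshMap_toOverCat]
  have hs : IsIso s := by
    rw [e1] at h
    have := (ObjectProperty.ι _).map_isIso (ObjectProperty.homMk s : F ⟶ (AlgSp.yon S).obj U)
    exact this
  have h1 : IsEquivOver (ofPshMap s) := isEquivOver_ofPshMap_iso (asIso s)
  exact IsEquivOver.of_iso (isoToOverCat Φ) (IsEquivOver.comp h1 (isEquivOver_toOverCat U))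

/-- 2-out-of-3 for equivalences over the base. -/
theorem isEquivOver_of_comp {𝒜 : BasedCategory.{v₁, u₁} (Over S)} {ℬ : BasedCategory.{v₂, u₂} (Over S)}
    {𝒞 : BasedCategory.{v₃, u₃} (Over S)} (e : 𝒜 ⥤ᵇ ℬ) (g : ℬ ⥤ᵇ 𝒞)
    (he : IsEquivOver e) (h : IsEquivOver (BasedFunctor.comp e g)) : IsEquivOver g := by
  obtain ⟨e', he', ⟨η₁⟩, ⟨η₂⟩⟩ := IsEquivOver.exists_inv he
  refine IsEquivOver.of_iso ?_ (IsEquivOver.comp he' h)
  exact eqToIso (BasedFunctor.comp_assoc _ _ _).symm ≪≫ whiskerRightIso η₂ g ≪≫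
    eqToIso (BasedFunctor.id_comp _)

/-- for a monomorphism `f : 𝒵' ⟶ 𝒵` and a field point `z` of `𝒵` whose point lies in the image of `f`, the base change
of `f` along `z` is an equivalence. -/
theorem isEquivOver_fpFst_field {𝒵' 𝒵 : AlgSt.Cat S} (h𝒵' : IsFibGrpd 𝒵'.p) (h𝒵 : IsFibGrpd 𝒵.p)
    (f : 𝒵' ⥤ᵇ 𝒵) (hf : IsMono f)
    (k : Type u) [Field k] (a : Spec (CommRingCat.of k) ⟶ S) (z : overCat (Over.mk a) ⥤ᵇ 𝒵)
    (p : Points (overCat (Over.mk a))) (w' : Points 𝒵') (hp : Points.map z p = Points.map f w') :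
    IsEquivOver (fpFst z f) := by
  obtain ⟨F, e, he, hmono⟩ := hf (Over.mk a) z
  haveI : Mono (spMapOfOver (BasedFunctor.comp e (fpFst z f))) := hmono
  obtain ⟨w, -, -⟩ := exists_points_fp_of_map_eq h𝒵' h𝒵 (Groth.Agent.Helper19.ChartOver.isFibGrpd_overCat _) f z p w' hp
  let α : AlgSp.Points F.obj := (kappa F e he).symm w
  have hiso : IsIso (spMapOfOver (BasedFunctor.comp e (fpFst z f))) :=
    Groth.Agent.Helper15.isIso_of_mono_to_field_sp F.property a _ α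
  have h1 : IsEquivOver (BasedFunctor.comp e (fpFst z f)) := isEquivOver_of_isIso_spMapOfOver _ hiso
  exact isEquivOver_of_comp e _ he h1

/-- a field point of `𝒵` whose point lies in the image of a monomorphism `f : 𝒵' ⟶ 𝒵` lifts to `𝒵'`. -/
theorem exists_lift_field {𝒵' 𝒵 : AlgSt.Cat S} (h𝒵' : IsFibGrpd 𝒵'.p) (h𝒵 : IsFibGrpd 𝒵.p)
    (f : 𝒵' ⥤ᵇ 𝒵) (hf : IsMono f)
    (k : Type u) [Field k] (a : Spec (CommRingCat.of k) ⟶ S) (z : overCat (Over.mk a) ⥤ᵇ 𝒵)
    (p : Points (overCat (Over.mk a))) (w' : Points 𝒵') (hp : Points.map z p = Points.map f w') :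
    ∃ z' : overCat (Over.mk a) ⥤ᵇ 𝒵', Nonempty (BasedFunctor.comp z' f ≅ z) := by
  have h2 : IsEquivOver (fpFst z f) := isEquivOver_fpFst_field h𝒵' h𝒵 f hf k a z p w' hp
  obtain ⟨G, -, -, ⟨η₂⟩⟩ := IsEquivOver.exists_inv h2
  refine ⟨BasedFunctor.comp G (fpSnd z f), ⟨?_⟩⟩
  exact eqToIso (BasedFunctor.comp_assoc _ _ _) ≪≫ whiskerLeftIso G (fpIso z f).symm ≪≫
    eqToIso (BasedFunctor.comp_assoc _ _ _).symm ≪≫ whiskerRightIso η₂ z ≪≫
    eqToIso (BasedFunctor.id_comp _)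

end Groth.Agent.Helper19.GerbMono
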