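import Mathlib
import Groth.Agent.Lib.Helper19.GerbMono.Lift
import Groth.Agent.Lib.Helper19.DescCover
import Groth.Agent.Lib.Helper16.AlgSp.StdIso
import Groth.Agent.Lib.Helper19.YonLib

/-!
# A monomorphism into a stack with an fppf field point is empty or an equivalence (helper19)
-/

set_option autoImplicit false
set_option backward.isDefEq.respectTransparency false

universe u

open CategoryTheory CategoryTheory.Limits AlgebraicGeometry

namespace Groth.Agent.Helper19.GerbMono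

open FibCat AlgSt Stk Groth.Agent.Helper19.FibLib Groth.Agent.Helper19.StLib
  Groth.Agent.Helper19.PshSt Groth.Agent.Helper19.PshLib Groth.Agent.Helper19.StPts
  Groth.Agent.Helper19.CancelAlg Groth.Agent.Helper19.AlgP Groth.Agent.Helper19.DescCover
  Groth.Agent.Helper19.SpProps

variable {S : Scheme.{u}}

theorem stableAlg_isomorphisms : StableAlg (S := S) (MorphismProperty.isomorphisms (AlgSp.Sp S)) := by
  intro X₁ Y₁ X₂ Y₂ _ _ _ _ a b a' b' sq ha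
  haveI : IsIso a := ha
  exact sq.isIso_snd_of_isIso

theorem isLocalOnBase_fppf_isomorphisms :
    AlgSp.IsLocalOnBase AlgSp.IsFppfCover (MorphismProperty.isomorphisms (AlgSp.Sp S)) :=
  isLocalOnBase_fppf_of_fpqc
    (Groth.Agent.Helper16.AS.isLocalOnBase_fpqc_of_std Groth.Agent.Helper16.AS.isLocalOnBase_std_isomorphisms)

/-- an object isomorphic (in the total category) to a value of a functor over the base between categories fibred in
groupoids is isomorphic to a value over the identity. -/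
theorem exists_iso_over_id {𝒳 𝒴 : AlgSt.Cat S} (h𝒳 : IsFibGrpd 𝒳.p) (h𝒴 : IsFibGrpd 𝒴.p) (f : 𝒳 ⥤ᵇ 𝒴)
    (ζ : 𝒳.obj) (ξ : 𝒴.obj) (E : f.obj ζ ≅ ξ) :
    ∃ (ζ' : 𝒳.obj) (e : f.obj ζ' ≅ ξ), 𝒴.p.IsHomLift (𝟙 (𝒴.p.obj ξ)) e.hom := by
  let g : 𝒴.p.obj (f.obj ζ) ⟶ 𝒴.p.obj ξ := 𝒴.p.map E.hom
  haveI : IsIso g := inferInstanceAs (IsIso (𝒴.p.map E.hom))
  haveI := isFibered_of_isFibGrpd h𝒳
  obtain ⟨ζ', ψ, hψ⟩ := CategoryTheory.IsPreFibered.exists_isCartesian 𝒳.p (f.w_obj ζ).symm (inv g)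
  haveI : 𝒳.p.IsHomLift (inv g) ψ := hψ.toIsHomLift
  haveI : 𝒴.p.IsHomLift (inv g) (f.map ψ) := inferInstance
  haveI : 𝒴.p.IsHomLift g E.hom := inferInstanceAs (𝒴.p.IsHomLift (𝒴.p.map E.hom) E.hom)
  have h1 : 𝒴.p.IsHomLift (inv g ≫ g) (f.map ψ ≫ E.hom) := inferInstance
  rw [IsIso.inv_hom_id] at h1
  haveI := h1
  haveI : IsIso (f.map ψ ≫ E.hom) := isIso_of_isHomLift h𝒴 (𝟙 (𝒴.p.obj ξ)) (f.map ψ ≫ E.hom)
  exact ⟨ζ', asIso (f.map ψ ≫ E.hom), h1⟩

/-- a fully faithful functor of categories fibred in groupoids which is representable by isomorphisms is an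
equivalence. -/
theorem isEquivOver_of_repByAlgSpWith_isomorphisms {𝒳 𝒴 : AlgSt.Cat S} (h𝒳 : IsFibGrpd 𝒳.p)
    (h𝒴 : IsFibGrpd 𝒴.p) (f : 𝒳 ⥤ᵇ 𝒴) [f.toFunctor.Full] [f.toFunctor.Faithful]
    (hf : RepByAlgSpWith (MorphismProperty.isomorphisms (AlgSp.Sp S)) f) : IsEquivOver f := by
  refine isEquivOver_of_fullyFaithful f (fun ξ => ?_)
  obtain ⟨Y, θ, hθ⟩ := Groth.Agent.Helper19.YonLib.exists_chart_of_obj h𝒴 ξ rfl
  obtain ⟨F, e, he, hiso⟩ := hf (𝒴.p.obj ξ) Y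
  have h1 : IsEquivOver (BasedFunctor.comp e (fpFst Y f)) := isEquivOver_of_isIso_spMapOfOver _ hiso
  have h2 : IsEquivOver (fpFst Y f) := isEquivOver_of_comp e _ he h1
  haveI := IsEquivOver.isEquivalence h2
  let o : (fp Y f).obj := (fpFst Y f).toFunctor.objPreimage (Over.mk (𝟙 (𝒴.p.obj ξ)))
  let j : (fpFst Y f).obj o ≅ Over.mk (𝟙 (𝒴.p.obj ξ)) :=
    (fpFst Y f).toFunctor.objObjPreimageIso (Over.mk (𝟙 (𝒴.p.obj ξ)))
  exact exists_iso_over_id h𝒳 h𝒴 f o.obj.snd ξ (o.obj.iso.symm ≪≫ Y.toFunctor.mapIso j ≪≫ θ)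

/-- **S16807**: a monomorphism of algebraic stacks into a stack which receives an fppf surjection from the spectrum of
a field is either empty or an equivalence. -/
theorem isEmpty_or_isEquivOver {𝒵' 𝒵 : AlgSt.Cat S} (h𝒵' : IsFibGrpd 𝒵'.p) (h𝒵 : IsFibGrpd 𝒵.p)
    (f : 𝒵' ⥤ᵇ 𝒵) (hf : IsMono f)
    (k : Type u) [Field k] (a : Spec (CommRingCat.of k) ⟶ S) (z : overCat (Over.mk a) ⥤ᵇ 𝒵)
    (hzp : RepByAlgSpWith (AlgSp.LocP @LocallyOfFinitePresentation) z)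
    (hzs : RepByAlgSpWith AlgSp.IsSurjectiveMor z) (hzf : RepByAlgSpWith (AlgSp.LocP @Flat) z) :
    IsEmpty (Points 𝒵') ∨ IsEquivOver f := by
  by_cases hne : IsEmpty (Points 𝒵')
  · exact Or.inl hne
  refine Or.inr ?_
  rw [not_isEmpty_iff] at hne
  obtain ⟨w'⟩ := hne
  obtain ⟨p, hp⟩ := Groth.Agent.Helper19.StPts.isSurjective_of_repByAlgSpWith h𝒵 z hzs (Points.map f w')
  have h2 : IsEquivOver (fpFst z f) := isEquivOver_fpFst_field h𝒵' h𝒵 f hf k a z p w' hp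
  have h' : RepByAlgSpWith (MorphismProperty.isomorphisms (AlgSp.Sp S)) (fpFst z f) :=
    Groth.Agent.Helper19.PshSt.repByAlgSpWith_of_equiv _
      (fun U => MorphismProperty.isomorphisms.infer_property (𝟙 _)) _ h2
  have hw : RepByAlgSpWith fppfP z := repByAlgSpWith_fppfP z hzf hzp hzs
  have hiso : RepByAlgSpWith (MorphismProperty.isomorphisms (AlgSp.Sp S)) f :=
    repByAlgSpWith_of_cover stableAlg_isomorphisms isLocalOnBase_fppf_isomorphisms h𝒵' h𝒵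
      (Groth.Agent.Helper19.ChartOver.isFibGrpd_overCat _) f
      (Groth.Agent.Helper19.PshSt.RepByAlgSpWith.repByAlgSp1 hf) z hw h'
  obtain ⟨hfull, hfaith⟩ := Groth.Agent.S12774.result h𝒵' h𝒵 f hf
  haveI := hfull
  haveI := hfaith
  exact isEquivOver_of_repByAlgSpWith_isomorphisms h𝒵' h𝒵 f hiso

end Groth.Agent.Helper19.GerbMono
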